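import Mathlib
import Cfsg.Agent.Lib.MinNormalNonabelian
import Cfsg.Agent.S0135
import Cfsg.Agent.Characters.Values
import Cfsg.Agent.Lib.SchurRational
import Cfsg.Agent.CoOneType.ClosingFacts
import Cfsg.Agent.SporadicA.GolayFast
import Cfsg.Agent.FastGrp
import Cfsg.Agent.Prune
set_option linter.all false
prune_inst 0x7f00000000000000000000000000000000000000000000000000000000000000000000000000000000000000000000000000000000000000000000000000000000000000000000000000000000000000003ffff66fffffffffffffffffffffbeffbdefffffff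
open scoped Cfsg.Agent.FastGrp

-- part: H347/Rat/Lin
section
/-!
Rational representations of odd prime degree: elementary linear algebra.

* `exists_fixed_or_neg`: an endomorphism of finite order of an odd-dimensional rational space has an eigenvalue `1` or `-1`;
* `scalar_of_comm`: a group element commuting with an irreducible family is `±1`;
* `clifford`: a normal subgroup of an irreducible group of prime degree is irreducible or has an eigenline.
-/

set_option autoImplicit false

namespace Cfsg.Agent.H347.Rat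

open Module

/-- A real monic polynomial of odd degree has a root. -/
theorem exists_root_of_odd (p : Polynomial ℝ) (hp : p.Monic) (hodd : Odd p.natDegree) :
    ∃ r : ℝ, p.IsRoot r := by
  have hd : 0 < p.degree := by
    rw [← Polynomial.natDegree_pos_iff_degree_pos]; exact hodd.pos
  have h1 : Filter.Tendsto (fun x => p.eval x) Filter.atTop Filter.atTop :=
    p.tendsto_atTop_of_leadingCoeff_nonneg hd (by rw [hp.leadingCoeff]; norm_num)
  have h2 : Filter.Tendsto (fun x => (-(p.comp (-Polynomial.X))).eval x) Filter.atTop Filter.atTop := by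
    have hc : (-(p.comp (-Polynomial.X))).leadingCoeff = 1 := by
      rw [Polynomial.leadingCoeff_neg, Polynomial.leadingCoeff_comp (by simp), hp.leadingCoeff]
      simp [hodd.neg_one_pow]
    apply Polynomial.tendsto_atTop_of_leadingCoeff_nonneg
    · rw [Polynomial.degree_neg, ← Polynomial.natDegree_pos_iff_degree_pos, Polynomial.natDegree_comp]
      simp [hodd.pos]
    · rw [hc]; norm_num
  obtain ⟨b, hb⟩ := (h1.eventually_ge_atTop 0).exists
  obtain ⟨a, ha⟩ := (h2.eventually_ge_atTop 0).exists
  have ha' : p.eval (-a) ≤ 0 := by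
    have : (-(p.comp (-Polynomial.X))).eval a = - p.eval (-a) := by simp
    linarith [this ▸ ha]
  obtain ⟨r, hr⟩ := mem_range_of_exists_le_of_exists_ge p.continuous ⟨-a, ha'⟩ ⟨b, hb⟩
  exact ⟨r, hr⟩

variable {V : Type*} [AddCommGroup V] [Module ℚ V] [FiniteDimensional ℚ V]

/-- An endomorphism of finite order of an odd-dimensional rational space has an eigenvalue `±1`. -/
theorem exists_fixed_or_neg (hV : Odd (finrank ℚ V)) (f : End ℚ V) {n : ℕ} (hn : 0 < n)
    (hf : f ^ n = 1) : (∃ v : V, v ≠ 0 ∧ f v = v) ∨ ∃ v : V, v ≠ 0 ∧ f v = -v := by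
  have hmon : (f.charpoly.map (algebraMap ℚ ℝ)).Monic := (LinearMap.charpoly_monic f).map _
  obtain ⟨r, hr⟩ := exists_root_of_odd _ hmon (by
    rw [(LinearMap.charpoly_monic f).natDegree_map, LinearMap.charpoly_natDegree]; exact hV)
  rw [← LinearMap.charpoly_baseChange, ← Module.End.hasEigenvalue_iff_isRoot_charpoly] at hr
  obtain ⟨u, hu⟩ := hr.exists_hasEigenvector
  have hfb : (LinearMap.baseChange ℝ f) ^ n = 1 := by
    rw [← LinearMap.baseChange_pow, hf]
    exact LinearMap.baseChange_id
  have h1 : r ^ n = 1 := by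
    have h2 := hu.pow_apply n
    rw [hfb, Module.End.one_apply] at h2
    exact smul_left_injective ℝ hu.2 (by simpa using h2.symm)
  have h2 : r = 1 ∨ r = -1 := by
    have h3 : |r| = 1 := by
      have : |r| ^ n = 1 := by rw [← abs_pow, h1, abs_one]
      exact (pow_eq_one_iff_of_nonneg (abs_nonneg r) hn.ne').1 this
    rcases abs_eq (zero_le_one' ℝ) |>.1 h3 with h | h
    · exact Or.inl h
    · exact Or.inr h
  have key : ∀ q : ℚ, (algebraMap ℚ ℝ q) = r → ∃ v : V, v ≠ 0 ∧ f v = q • v := by
    intro q hq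
    have h3 : f.charpoly.IsRoot q := by
      have h4 : (f.charpoly.map (algebraMap ℚ ℝ)).IsRoot (algebraMap ℚ ℝ q) := by
        rw [← LinearMap.charpoly_baseChange, ← Module.End.hasEigenvalue_iff_isRoot_charpoly, hq]
        exact Module.End.hasEigenvalue_of_hasEigenvector hu
      rw [Polynomial.IsRoot, Polynomial.eval_map_algebraMap, Polynomial.aeval_algebraMap_apply] at h4
      simpa using h4
    rw [← Module.End.hasEigenvalue_iff_isRoot_charpoly] at h3
    obtain ⟨v, hv⟩ := h3.exists_hasEigenvector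
    exact ⟨v, hv.2, hv.apply_eq_smul⟩
  rcases h2 with h2 | h2
  · obtain ⟨v, hv, hv'⟩ := key 1 (by rw [h2]; simp)
    exact Or.inl ⟨v, hv, by rw [hv', one_smul]⟩
  · obtain ⟨v, hv, hv'⟩ := key (-1) (by rw [h2]; simp)
    exact Or.inr ⟨v, hv, by rw [hv', neg_smul, one_smul]⟩

section Rep

variable {G : Type*} [Group G] (σ : Representation ℚ G V)

/-- `K` leaves only the trivial subspaces invariant. -/
def IrrOn (K : Subgroup G) : Prop :=
  ∀ W : Submodule ℚ V, (∀ k ∈ K, ∀ w ∈ W, σ k w ∈ W) → W = ⊥ ∨ W = ⊤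

omit [FiniteDimensional ℚ V] in
theorem inv_apply_self (g : G) (v : V) : σ g⁻¹ (σ g v) = v := by
  rw [← Module.End.mul_apply, ← map_mul, inv_mul_cancel, map_one, Module.End.one_apply]

omit [FiniteDimensional ℚ V] in
theorem apply_inv_self (g : G) (v : V) : σ g (σ g⁻¹ v) = v := by
  rw [← Module.End.mul_apply, ← map_mul, mul_inv_cancel, map_one, Module.End.one_apply]

omit [FiniteDimensional ℚ V] in
theorem injective_apply (g : G) : Function.Injective (σ g) :=
  Function.LeftInverse.injective (inv_apply_self σ g)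

variable {σ}

/-- An element commuting with an irreducible subgroup is `±1` (odd dimension). -/
theorem scalar_of_comm [Finite G] (hV : Odd (finrank ℚ V)) {K : Subgroup G} (hK : IrrOn σ K) {x : G}
    (hx : ∀ k ∈ K, x * k = k * x) : σ x = 1 ∨ σ x = -1 := by
  have hfin : σ x ^ Nat.card G = 1 := by
    rw [← map_pow, pow_card_eq_one', map_one]
  have hc : ∀ k ∈ K, ∀ v, σ x (σ k v) = σ k (σ x v) := by
    intro k hk v
    rw [← Module.End.mul_apply, ← Module.End.mul_apply, ← map_mul, ← map_mul, hx k hk]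
  rcases exists_fixed_or_neg hV (σ x) Nat.card_pos hfin with ⟨v, hv, hv'⟩ | ⟨v, hv, hv'⟩
  · left
    let W : Submodule ℚ V := LinearMap.ker (σ x - 1)
    have hW : ∀ w, w ∈ W ↔ σ x w = w := by
      intro w
      rw [LinearMap.mem_ker, LinearMap.sub_apply, Module.End.one_apply, sub_eq_zero]
    have h1 : W = ⊤ := (hK W (fun k hk w hw => by
      rw [hW] at hw ⊢
      rw [hc k hk, hw])).resolve_left fun h => by
        have : v ∈ W := (hW v).2 hv'
        rw [h, Submodule.mem_bot] at this
        exact hv this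
    ext w
    have : w ∈ W := h1 ▸ Submodule.mem_top
    rw [(hW w).1 this, Module.End.one_apply]
  · right
    let W : Submodule ℚ V := LinearMap.ker (σ x + 1)
    have hW : ∀ w, w ∈ W ↔ σ x w = -w := by
      intro w
      rw [LinearMap.mem_ker, LinearMap.add_apply, Module.End.one_apply, add_eq_zero_iff_eq_neg]
    have h1 : W = ⊤ := (hK W (fun k hk w hw => by
      rw [hW] at hw ⊢
      rw [hc k hk, hw, map_neg])).resolve_left fun h => by
        have : v ∈ W := (hW v).2 hv'
        rw [h, Submodule.mem_bot] at this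
        exact hv this
    ext w
    have : w ∈ W := h1 ▸ Submodule.mem_top
    rw [(hW w).1 this]
    simp

/-- **Clifford's theorem** in prime degree: a normal subgroup `N` of the irreducible `K` is irreducible, or it has
an eigenline. -/
theorem clifford [Finite G] (hV : (finrank ℚ V).Prime) {K N : Subgroup G}
    (hn : ∀ k ∈ K, ∀ n ∈ N, k * n * k⁻¹ ∈ N) (hK : IrrOn σ K) :
    IrrOn σ N ∨ ∃ w : V, w ≠ 0 ∧ ∀ n ∈ N, σ n w = w ∨ σ n w = -w := by
  classical
  have : Nontrivial V := Module.nontrivial_of_finrank_pos (R := ℚ) hV.pos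
  -- a minimal invariant subspace
  let P : ℕ → Prop := fun d => ∃ W : Submodule ℚ V, W ≠ ⊥ ∧ (∀ n ∈ N, ∀ w ∈ W, σ n w ∈ W) ∧ finrank ℚ W = d
  have hP : ∃ d, P d := ⟨_, ⊤, bot_ne_top.symm, fun _ _ _ _ => Submodule.mem_top, rfl⟩
  obtain ⟨W, hW0, hWN, hWd⟩ := Nat.find_spec hP
  have hmin : ∀ W' : Submodule ℚ V, W' ≠ ⊥ → (∀ n ∈ N, ∀ w ∈ W', σ n w ∈ W') →
      finrank ℚ W ≤ finrank ℚ W' := by
    intro W' h1 h2
    rw [hWd]
    exact Nat.find_min' hP ⟨W', h1, h2, rfl⟩
  have hminW : ∀ W' : Submodule ℚ V, W' ≤ W → (∀ n ∈ N, ∀ w ∈ W', σ n w ∈ W') → W' = ⊥ ∨ W' = W := by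
    intro W' h1 h2
    by_cases h3 : W' = ⊥
    · exact Or.inl h3
    · exact Or.inr (Submodule.eq_of_le_of_finrank_le h1 (hmin W' h3 h2))
  -- divisibility
  have hdvd : finrank ℚ W ∣ finrank ℚ V := by
    let Q : Submodule ℚ V → Prop := fun U => (∀ n ∈ N, ∀ w ∈ U, σ n w ∈ U) ∧ finrank ℚ W ∣ finrank ℚ U
    have hQ : ∃ m, ∃ U : Submodule ℚ V, Q U ∧ finrank ℚ V - finrank ℚ U = m :=
      ⟨_, ⊥, ⟨fun n _ w hw => by rw [Submodule.mem_bot] at hw ⊢; rw [hw, map_zero], by simp⟩, rfl⟩
    obtain ⟨U, ⟨hUN, hUd⟩, hUm⟩ := Nat.find_spec hQ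
    by_cases hUt : U = ⊤
    · rw [hUt, finrank_top] at hUd
      exact hUd
    exfalso
    obtain ⟨k, hkK, hk⟩ : ∃ k ∈ K, ¬ W.map (σ k) ≤ U := by
      by_contra hno
      push Not at hno
      let Z : Submodule ℚ V := ⨆ k : K, W.map (σ (k : G))
      have hZU : Z ≤ U := iSup_le fun k => hno k k.2
      have hZK : ∀ k ∈ K, Z.map (σ k) ≤ Z := by
        intro k hk
        rw [Submodule.map_iSup]
        refine iSup_le fun l => ?_
        refine le_trans ?_ (le_iSup (fun k : K => W.map (σ (k : G))) (⟨k, hk⟩ * l))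
        rw [← Submodule.map_comp]
        apply le_of_eq
        congr 1
        change σ k * σ l = σ (k * l)
        rw [map_mul]
      rcases hK Z (fun k hk w hw => hZK k hk (Submodule.mem_map_of_mem hw)) with h | h
      · apply hW0
        have h1 : W.map (σ (1 : G)) ≤ Z := le_iSup (fun k : K => W.map (σ (k : G))) 1
        rw [h, le_bot_iff, map_one] at h1
        rw [← h1]
        exact (Submodule.map_id W).symm
      · exact hUt (top_le_iff.1 (h ▸ hZU))
    have h1 : ∀ w ∈ W, σ k w ∈ U → w = 0 := by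
      let W' : Submodule ℚ V := W ⊓ U.comap (σ k)
      have h2 : W' = ⊥ := by
        refine (hminW W' inf_le_left ?_).resolve_right fun h => hk ?_
        · rintro n hn' w ⟨hw1, hw2⟩
          refine ⟨hWN n hn' w hw1, ?_⟩
          change σ k (σ n w) ∈ U
          have e : σ k (σ n w) = σ (k * n * k⁻¹) (σ k w) := by
            rw [← Module.End.mul_apply, ← Module.End.mul_apply, ← map_mul, ← map_mul,
              inv_mul_cancel_right]
          rw [e]
          exact hUN _ (hn k hkK n hn') _ hw2
        · rw [Submodule.map_le_iff_le_comap]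
          exact (le_of_eq h.symm).trans inf_le_right
      intro w hw hw'
      have : w ∈ W' := ⟨hw, hw'⟩
      rwa [h2, Submodule.mem_bot] at this
    have hdisj : U ⊓ W.map (σ k) = ⊥ := by
      rw [Submodule.eq_bot_iff]
      rintro _ ⟨hu, w, hw, rfl⟩
      rw [h1 w hw hu, map_zero]
    have hfr : finrank ℚ (W.map (σ k)) = finrank ℚ W :=
      (Submodule.equivMapOfInjective (σ k) (injective_apply σ k) W).finrank_eq.symm
    have hsum := Submodule.finrank_sup_add_finrank_inf_eq U (W.map (σ k))
    rw [hdisj, finrank_bot, add_zero, hfr] at hsum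
    have hQ' : Q (U ⊔ W.map (σ k)) := by
      refine ⟨?_, by rw [hsum]; exact dvd_add hUd dvd_rfl⟩
      intro n hn' w hw
      obtain ⟨u, hu, w', hw', rfl⟩ := Submodule.mem_sup.1 hw
      obtain ⟨w, hw2, rfl⟩ := hw'
      rw [map_add]
      refine Submodule.add_mem_sup (hUN n hn' u hu) ?_
      refine ⟨σ (k⁻¹ * n * k) w, hWN _ ?_ w hw2, ?_⟩
      · have := hn k⁻¹ (K.inv_mem hkK) n hn'
        rwa [inv_inv] at this
      · rw [← Module.End.mul_apply, ← Module.End.mul_apply, ← map_mul, ← map_mul]
        congr 2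
        group
    have h2 := Nat.find_min' hQ ⟨_, hQ', rfl⟩
    have h3 : 0 < finrank ℚ W := Nat.pos_of_ne_zero fun h => hW0 (Submodule.finrank_eq_zero.1 h)
    have h4 := Submodule.finrank_le (U ⊔ W.map (σ k))
    omega
  rcases (Nat.dvd_prime hV).1 hdvd with h1 | h1
  · right
    obtain ⟨w, hw, hw'⟩ := finrank_eq_one_iff'.1 h1
    refine ⟨w, fun h => hw (Subtype.ext h), fun n hn' => ?_⟩
    obtain ⟨c, hc⟩ := hw' ⟨σ n w, hWN n hn' w w.2⟩
    have hc' : σ n w = c • (w : V) := (congrArg Subtype.val hc).symm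
    have hpow : ∀ m : ℕ, σ (n ^ m) w = c ^ m • (w : V) := by
      intro m
      induction m with
      | zero => simp
      | succ m ih => rw [pow_succ, map_mul, Module.End.mul_apply, hc', map_smul, ih, smul_smul, pow_succ, mul_comm]
    have h2 : c ^ Nat.card G = 1 := by
      have h3 := hpow (Nat.card G)
      rw [pow_card_eq_one', map_one, Module.End.one_apply] at h3
      have h4 : (w : V) ≠ 0 := fun h => hw (Subtype.ext h)
      exact smul_left_injective ℚ h4 (by simpa using h3.symm)
    have h3 : |c| = 1 := by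
      have : |c| ^ Nat.card G = 1 := by rw [← abs_pow, h2, abs_one]
      exact (pow_eq_one_iff_of_nonneg (abs_nonneg c) Nat.card_pos.ne').1 this
    rcases (abs_eq (zero_le_one' ℚ)).1 h3 with h | h
    · left; rw [hc', h, one_smul]
    · right; rw [hc', h, neg_smul, one_smul]
  · left
    intro U hU
    by_cases h2 : U = ⊥
    · exact Or.inl h2
    · right
      apply Submodule.eq_top_of_finrank_eq
      refine le_antisymm (Submodule.finrank_le U) ?_
      rw [← h1]
      exact hmin U h2 hU

omit [FiniteDimensional ℚ V] in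
/-- In the eigenline case all elements of `N` commute on `V` and have square one. -/
theorem span_lines {K N : Subgroup G} (hn : ∀ k ∈ K, ∀ n ∈ N, k * n * k⁻¹ ∈ N) (hK : IrrOn σ K)
    {w : V} (hw : w ≠ 0) (hwN : ∀ n ∈ N, σ n w = w ∨ σ n w = -w) :
    Submodule.span ℚ {v : V | (∀ n ∈ N, σ n v = v ∨ σ n v = -v)} = ⊤ := by
  refine (hK _ fun k hk v hv => ?_).resolve_left fun h => ?_
  · refine Submodule.span_induction (p := fun v _ => σ k v ∈ _) ?_ ?_ ?_ ?_ hv
    · intro v hv
      refine Submodule.subset_span fun n hnN => ?_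
      have h1 := hn k⁻¹ (K.inv_mem hk) n hnN
      have e : σ n (σ k v) = σ k (σ (k⁻¹ * n * k⁻¹⁻¹) v) := by
        rw [← Module.End.mul_apply, ← Module.End.mul_apply, ← map_mul, ← map_mul]
        congr 2
        group
      rw [e]
      rcases hv _ h1 with h2 | h2
      · left; rw [h2]
      · right; rw [h2, map_neg]
    · rw [map_zero]; exact Submodule.zero_mem _
    · intro x y _ _ hx hy
      rw [map_add]; exact Submodule.add_mem _ hx hy
    · intro a x _ hx
      rw [map_smul]; exact Submodule.smul_mem _ _ hx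
  · have : w ∈ (⊥ : Submodule ℚ V) := h ▸ Submodule.subset_span hwN
    exact hw ((Submodule.mem_bot ℚ).1 this)

omit [FiniteDimensional ℚ V] in
theorem comm_of_line {K N : Subgroup G} (hn : ∀ k ∈ K, ∀ n ∈ N, k * n * k⁻¹ ∈ N) (hK : IrrOn σ K)
    {w : V} (hw : w ≠ 0) (hwN : ∀ n ∈ N, σ n w = w ∨ σ n w = -w) {a b : G} (ha : a ∈ N) (hb : b ∈ N) :
    σ a * σ b = σ b * σ a := by
  have h := span_lines hn hK hw hwN
  refine LinearMap.ext_on h fun v hv => ?_
  rw [Module.End.mul_apply, Module.End.mul_apply]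
  rcases hv a ha with h1 | h1 <;> rcases hv b hb with h2 | h2 <;> simp [h1, h2]

/-- Weights of `N`. -/
def Wt (N : Subgroup G) : Type _ := N → ℚ

theorem conj_mem' (N : Subgroup G) [N.Normal] (g : G) (n : N) : (g⁻¹ * n * g : G) ∈ N := by
  have := ‹N.Normal›.conj_mem n n.2 g⁻¹
  rwa [inv_inv] at this

/-- The action on weights. -/
@[reducible] def wtAction (N : Subgroup G) [N.Normal] : MulAction G (Wt N) where
  smul g l := fun n => l ⟨g⁻¹ * n * g, conj_mem' N g n⟩
  one_smul l := by
    funext n
    change l _ = l n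
    congr 1
    exact Subtype.ext (by simp)
  mul_smul a b l := by
    funext n
    change l _ = l _
    congr 1
    exact Subtype.ext (by simp [mul_assoc])

variable (σ) in
/-- The weight space. -/
def wsp (N : Subgroup G) (l : Wt N) : Submodule ℚ V := ⨅ n : N, Module.End.eigenspace (σ (n : G)) (l n)

omit [FiniteDimensional ℚ V] in
theorem mem_wsp {N : Subgroup G} {l : Wt N} {v : V} : v ∈ wsp σ N l ↔ ∀ n : N, σ (n : G) v = l n • v := by
  simp [wsp, Submodule.mem_iInf]

omit [FiniteDimensional ℚ V] in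
theorem wsp_indep {N : Subgroup G} (hcomm : ∀ m n : N, σ (m : G) * σ (n : G) = σ (n : G) * σ (m : G)) :
    iSupIndep (wsp σ N) := by
  let f : N → Module.End ℚ V := fun n => σ (n : G)
  have h : iSupIndep fun χ : N → ℚ => ⨅ n, (f n).maxGenEigenspace (χ n) :=
    Module.End.independent_iInf_maxGenEigenspace_of_forall_mapsTo f (fun i j φ =>
      Module.End.mapsTo_maxGenEigenspace_of_comm (hcomm j i) φ)
  have h2 : iSupIndep fun χ : N → ℚ => ⨅ n, (f n).eigenspace (χ n) :=
    h.mono fun l => iInf_mono fun n => ((f n).genEigenspace (l n)).mono le_top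
  exact h2

/-- If the elements of `N` act diagonally, then they are scalar or the whole group has a subgroup of index
`finrank V`. -/
theorem scalar_of_line [Finite G] (hV : (finrank ℚ V).Prime) {N : Subgroup G} [N.Normal]
    (hG : IrrOn σ ⊤) {w : V} (hw : w ≠ 0) (hwN : ∀ n ∈ N, σ n w = w ∨ σ n w = -w)
    (hidx : ∀ H : Subgroup G, H.index ≠ finrank ℚ V) {a : G} (ha : a ∈ N) : σ a = 1 ∨ σ a = -1 := by
  classical
  have hn : ∀ k ∈ (⊤ : Subgroup G), ∀ n ∈ N, k * n * k⁻¹ ∈ N := fun k _ n hn => ‹N.Normal›.conj_mem n hn k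
  have hcomm : ∀ m n : N, σ (m : G) * σ (n : G) = σ (n : G) * σ (m : G) := fun m n =>
    comm_of_line hn hG hw hwN m.2 n.2
  have hind := wsp_indep hcomm
  let _ : MulAction G (Wt N) := wtAction N
  have hsmul : ∀ (g : G) (l : Wt N) (n : N), (g • l) n = l ⟨g⁻¹ * n * g, conj_mem' N g n⟩ := fun _ _ _ => rfl
  -- the weight of `w`
  let l₀ : Wt N := fun n => if σ (n : G) w = w then 1 else -1
  have hl₀ : w ∈ wsp σ N l₀ := by
    rw [mem_wsp]
    intro n
    by_cases h : σ (n : G) w = w
    · simp [l₀, h]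
    · have := (hwN n n.2).resolve_left h
      simp only [l₀, h, if_false]
      rw [this, neg_smul, one_smul]
  have hmap : ∀ (g : G) (l : Wt N), (wsp σ N l).map (σ g) = wsp σ N (g • l) := by
    have h1 : ∀ (g : G) (l : Wt N), (wsp σ N l).map (σ g) ≤ wsp σ N (g • l) := by
      rintro g l _ ⟨v, hv, rfl⟩
      rw [mem_wsp]
      intro n
      have h2 := mem_wsp.1 hv ⟨g⁻¹ * n * g, conj_mem' N g n⟩
      have e : σ (n : G) (σ g v) = σ g (σ (g⁻¹ * n * g) v) := by
        rw [← Module.End.mul_apply, ← Module.End.mul_apply, ← map_mul, ← map_mul]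
        congr 2
        group
      rw [e, hsmul]
      change σ g (σ (g⁻¹ * n * g) v) = _
      have h3 : σ (g⁻¹ * n * g) v = l ⟨g⁻¹ * n * g, conj_mem' N g n⟩ • v := h2
      rw [h3, map_smul]
    intro g l
    refine le_antisymm (h1 g l) fun v hv => ?_
    have h2 := h1 g⁻¹ (g • l) (Submodule.mem_map_of_mem hv)
    rw [inv_smul_smul] at h2
    exact ⟨_, h2, apply_inv_self σ g v⟩
  -- the orbit
  let O : Set (Wt N) := MulAction.orbit G l₀
  have hOfin : Finite O := Set.finite_range _
  have : Fintype O := Fintype.ofFinite O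
  have hsup : ⨆ l : O, wsp σ N l = ⊤ := by
    refine (hG _ fun g _ v hv => ?_).resolve_left fun h => ?_
    · have h1 : (⨆ l : O, wsp σ N l).map (σ g) ≤ ⨆ l : O, wsp σ N l := by
        rw [Submodule.map_iSup]
        refine iSup_le fun l => ?_
        rw [hmap]
        exact le_iSup (fun l : O => wsp σ N l) ⟨g • (l : Wt N), MulAction.mem_orbit_of_mem_orbit g l.2⟩
      exact h1 (Submodule.mem_map_of_mem hv)
    · have h1 : wsp σ N l₀ ≤ ⨆ l : O, wsp σ N l :=
        le_iSup (fun l : O => wsp σ N l) ⟨l₀, MulAction.mem_orbit_self l₀⟩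
      rw [h] at h1
      exact hw ((Submodule.mem_bot ℚ).1 (h1 hl₀))
  have hindO : iSupIndep fun l : O => wsp σ N l := hind.comp Subtype.val_injective
  have hint := DirectSum.isInternal_submodule_of_iSupIndep_of_iSup_eq_top hindO hsup
  have hfr : finrank ℚ V = Fintype.card O * finrank ℚ (wsp σ N l₀) := by
    rw [← (LinearEquiv.ofBijective (DirectSum.coeLinearMap fun l : O => wsp σ N l) hint).finrank_eq,
      Module.finrank_directSum]
    rw [Finset.sum_congr rfl (g := fun _ => finrank ℚ (wsp σ N l₀)) fun l _ => ?_]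
    · simp
    · obtain ⟨l, g, rfl⟩ := l
      change finrank ℚ (wsp σ N (g • l₀)) = _
      rw [← hmap]
      exact (Submodule.equivMapOfInjective (σ g) (injective_apply σ g) _).finrank_eq.symm
  have hcardO : Fintype.card O = (MulAction.stabilizer G l₀).index := by
    rw [MulAction.index_stabilizer, ← Nat.card_eq_fintype_card, Nat.card_coe_set_eq]
  have h1 : Fintype.card O ∣ finrank ℚ V := ⟨_, hfr⟩
  rcases (Nat.dvd_prime hV).1 h1 with h2 | h2
  · -- only one weight
    have h3 : wsp σ N l₀ = ⊤ := by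
      rw [← hsup]
      refine le_antisymm (le_iSup (fun l : O => wsp σ N l) ⟨l₀, MulAction.mem_orbit_self l₀⟩)
        (iSup_le fun l => ?_)
      have := (Fintype.card_le_one_iff.1 h2.le) l ⟨l₀, MulAction.mem_orbit_self l₀⟩
      rw [this]
    have h4 : ∀ v, σ a v = l₀ ⟨a, ha⟩ • v := fun v => mem_wsp.1 (h3 ▸ Submodule.mem_top) ⟨a, ha⟩
    by_cases h5 : σ a w = w
    · left
      ext v
      rw [h4]; simp [l₀, h5]
    · right
      ext v
      rw [h4]; simp [l₀, h5]
  · exact absurd (hcardO ▸ h2) (hidx _)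

end Rep

end Cfsg.Agent.H347.Rat
end

-- part: H347/Rat/Red
section
/-!
A finite group with a faithful irreducible rational representation of odd prime degree `p` and without subgroup of index `p`
has a non-abelian simple normal subgroup acting irreducibly.
-/

set_option autoImplicit false

namespace Cfsg.Agent.H347.Rat

open Module Cfsg.Agent.Lib

variable {V : Type*} [AddCommGroup V] [Module ℚ V] [FiniteDimensional ℚ V]
variable {G : Type*} [Group G] {σ : Representation ℚ G V}

omit [FiniteDimensional ℚ V] in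
/-- A scalar group is not irreducible. -/
theorem finrank_le_one_of_scalar {K : Subgroup G} (hK : IrrOn σ K) (h : ∀ k ∈ K, σ k = 1 ∨ σ k = -1) :
    finrank ℚ V ≤ 1 := by
  by_cases hV : ∀ v : V, v = 0
  · have : Subsingleton V := ⟨fun a b => (hV a).trans (hV b).symm⟩
    rw [finrank_zero_of_subsingleton]; exact zero_le_one
  push Not at hV
  obtain ⟨v, hv⟩ := hV
  have h1 : Submodule.span ℚ {v} = ⊤ := by
    refine (hK _ fun k hk w hw => ?_).resolve_left fun h => hv ?_
    · rcases h k hk with h2 | h2 <;> rw [h2]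
      · exact hw
      · simpa using hw
    · exact Submodule.span_singleton_eq_bot.1 h
  rw [← finrank_top ℚ V, ← h1]
  exact finrank_span_le_card ({v} : Set V) |>.trans (by simp)

/-- **Reduction.** -/
theorem exists_simple [Finite G] (hinj : Function.Injective σ) (hV : (finrank ℚ V).Prime)
    (hodd : Odd (finrank ℚ V)) (hG : IrrOn σ ⊤) (hidx : ∀ H : Subgroup G, H.index ≠ finrank ℚ V) :
    ∃ T : Subgroup G, T.Normal ∧ IsSimpleGroup T ∧ (¬ ∀ x ∈ T, ∀ y ∈ T, x * y = y * x) ∧ IrrOn σ T ∧
      ∀ x : G, (∀ t ∈ T, x * t = t * x) → σ x = 1 ∨ σ x = -1 := by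
  classical
  -- the kernel of the determinant
  let D : G →* ℚ := (LinearMap.det : (V →ₗ[ℚ] V) →* ℚ).comp σ
  have hD : ∀ g, D g = LinearMap.det (σ g) := fun _ => rfl
  let G₀ : Subgroup G := D.ker
  have hG₀n : G₀.Normal := inferInstance
  have hneg : ∀ x ∈ G₀, (σ x = 1 ∨ σ x = -1) → x = 1 := by
    rintro x hx (h | h)
    · exact hinj (h.trans (map_one σ).symm)
    · exfalso
      have h1 : LinearMap.det (σ x) = 1 := hx
      rw [h] at h1
      have h2 : LinearMap.det (-1 : V →ₗ[ℚ] V) = (-1) ^ finrank ℚ V := by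
        have h3 : (-1 : V →ₗ[ℚ] V) = (-1 : ℚ) • (1 : V →ₗ[ℚ] V) := by simp
        rw [h3, LinearMap.det_smul, map_one, mul_one]
      rw [h2, hodd.neg_one_pow] at h1
      norm_num at h1
  have hsq : ∀ g : G, g * g ∈ G₀ := by
    intro g
    change D (g * g) = 1
    have h1 : D g ^ Nat.card G = 1 := by rw [← map_pow, pow_card_eq_one', map_one]
    have h2 : |D g| = 1 := by
      have : |D g| ^ Nat.card G = 1 := by rw [← abs_pow, h1, abs_one]
      exact (pow_eq_one_iff_of_nonneg (abs_nonneg _) Nat.card_pos.ne').1 this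
    rw [map_mul, ← abs_mul_abs_self, h2, one_mul]
  have hG₀ : G₀ ≠ ⊥ := by
    intro h
    have h1 : ∀ g : G, g * g = 1 := fun g => by
      have := hsq g
      rwa [h, Subgroup.mem_bot] at this
    have h2 : ∀ x y : G, x * y = y * x := by
      intro x y
      have e : ∀ g : G, g⁻¹ = g := fun g => inv_eq_of_mul_eq_one_left (h1 g)
      calc x * y = (x * y)⁻¹ := (e _).symm
        _ = y⁻¹ * x⁻¹ := mul_inv_rev _ _
        _ = y * x := by rw [e, e]
    have h3 := finrank_le_one_of_scalar hG fun k _ => scalar_of_comm hodd hG fun l _ => h2 k l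
    exact absurd hV.one_lt (by omega)
  -- a minimal normal subgroup in `G₀`
  obtain ⟨N, ⟨hNn, hN0, hNle⟩, hNmin⟩ := (wellFounded_lt (α := Subgroup G)).has_min
    {N : Subgroup G | N.Normal ∧ N ≠ ⊥ ∧ N ≤ G₀} ⟨G₀, hG₀n, hG₀, le_rfl⟩
  have hmin : ∀ M : Subgroup G, M.Normal → M ≤ N → M = ⊥ ∨ M = N := by
    intro M hM hMN
    by_contra hno
    push Not at hno
    exact hNmin M ⟨hM, hno.1, hMN.trans hNle⟩ (lt_of_le_of_ne hMN hno.2)
  have hnconj : ∀ k ∈ (⊤ : Subgroup G), ∀ n ∈ N, k * n * k⁻¹ ∈ N := fun k _ n hn => hNn.conj_mem n hn k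
  -- `N` is irreducible
  have hNirr : IrrOn σ N := by
    rcases clifford hV hnconj hG with h | ⟨w, hw, hwN⟩
    · exact h
    · exfalso
      apply hN0
      rw [Subgroup.eq_bot_iff_forall]
      intro x hx
      exact hneg x (hNle hx) (scalar_of_line hV hG hw hwN hidx hx)
  have hNna : ¬ ∀ x ∈ N, ∀ y ∈ N, Commute x y := by
    intro h
    apply hN0
    rw [Subgroup.eq_bot_iff_forall]
    intro x hx
    exact hneg x (hNle hx) (scalar_of_comm hodd hNirr fun k hk => h x hx k hk)
  obtain ⟨⟨T, hT⟩, hind, hsup, hsimp, hcen, -⟩ := MinNormalNonabelian.nonabelian_structure N hmin hNna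
  have hTna : ¬ ∀ x ∈ T, ∀ y ∈ T, x * y = y * x := by
    intro h
    apply hT.2.1
    rw [Subgroup.eq_bot_iff_forall]
    intro x hx
    exact hcen T hT x hx fun t ht => h x hx t ht
  have hTconj : ∀ k ∈ N, ∀ n ∈ T, k * n * k⁻¹ ∈ T := fun k hk n hn =>
    (Subgroup.mem_normalizer_iff.1 (hT.2.2.1 hk) n).1 hn
  have hTirr : IrrOn σ T := by
    rcases clifford hV hTconj hNirr with h | ⟨w, hw, hwT⟩
    · exact h
    · exfalso
      apply hTna
      intro x hx y hy
      apply hinj
      rw [map_mul, map_mul]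
      exact comm_of_line hTconj hNirr hw hwT hx hy
  have hTN : T = N := by
    have hsub : MinNormalNonabelian.minSet N ⊆ {T} := by
      intro T' hT'
      by_contra hne
      apply hT'.2.1
      rw [Subgroup.eq_bot_iff_forall]
      intro x hx
      refine hneg x (hNle (hT'.1 hx)) (scalar_of_comm hodd hTirr fun k hk => ?_)
      exact (MinNormal.commute_of_mem hind (fun S hS => hS.2.2.1) (fun S hS => hS.1) hT' hT hne hx hk).eq
    have h1 : MinNormalNonabelian.minSet N = {T} :=
      Set.Subset.antisymm hsub (Set.singleton_subset_iff.2 hT)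
    rw [← hsup, h1, sSup_singleton]
  refine ⟨T, hTN ▸ hNn, hsimp T hT, hTna, hTirr, fun x hx => scalar_of_comm hodd hTirr hx⟩

end Cfsg.Agent.H347.Rat
end

-- part: H347/Rat/Cent
section
/-!
The centralizer algebra of an irreducible rational group of odd prime degree is `ℚ`, if the group is not scalar.
-/

set_option autoImplicit false

namespace Cfsg.Agent.H347.Rat

open Module

variable {V : Type*} [AddCommGroup V] [Module ℚ V] [FiniteDimensional ℚ V]
variable {G : Type*} [Group G] {σ : Representation ℚ G V}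

theorem comm_scalar [Finite G] (hV : (finrank ℚ V).Prime) (hodd : Odd (finrank ℚ V)) {K : Subgroup G}
    (hK : IrrOn σ K) (φ : Module.End ℚ V) (hφ : ∀ k ∈ K, φ * σ k = σ k * φ) :
    ∃ c : ℚ, φ = c • (1 : Module.End ℚ V) := by
  classical
  have : Nontrivial V := Module.nontrivial_of_finrank_pos (R := ℚ) hV.pos
  let D : Subalgebra ℚ (Module.End ℚ V) := Subalgebra.centralizer ℚ {f | ∃ k ∈ K, σ k = f}
  have hD : ∀ f : Module.End ℚ V, f ∈ D ↔ ∀ k ∈ K, ∀ v, f (σ k v) = σ k (f v) := by
    intro f
    rw [Subalgebra.mem_centralizer_iff]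
    constructor
    · intro h k hk v
      exact (LinearMap.congr_fun (h _ ⟨k, hk, rfl⟩) v).symm
    · rintro h _ ⟨k, hk, rfl⟩
      ext v
      exact (h k hk v).symm
  have hker : ∀ f ∈ D, f ≠ 0 → ∀ v, f v = 0 → v = 0 := by
    intro f hf hf0 v hv
    have h1 := hK (LinearMap.ker f) (fun k hk w hw => by
      rw [LinearMap.mem_ker] at hw ⊢
      rw [(hD f).1 hf k hk, hw, map_zero])
    rcases h1 with h1 | h1
    · have h2 : v ∈ LinearMap.ker f := LinearMap.mem_ker.2 hv
      rw [h1] at h2
      exact (Submodule.mem_bot ℚ).1 h2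
    · exact absurd (LinearMap.ker_eq_top.1 h1) hf0
  have hdom : IsDomain D := by
    have hnz : NoZeroDivisors D := by
      refine ⟨fun {a b} hab => ?_⟩
      by_contra hno
      push Not at hno
      obtain ⟨ha, hb⟩ := hno
      apply hb
      apply Subtype.ext
      ext v
      refine hker a a.2 (fun h => ha (Subtype.ext h)) _ ?_
      exact LinearMap.congr_fun (congrArg Subtype.val hab) v
    exact NoZeroDivisors.to_isDomain D
  let _ : DivisionRing D := divisionRingOfFiniteDimensional ℚ D
  have hmul : finrank ℚ D * finrank D V = finrank ℚ V := Module.finrank_mul_finrank ℚ D V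
  have hdvd : finrank ℚ D ∣ finrank ℚ V := ⟨_, hmul.symm⟩
  rcases (Nat.dvd_prime hV).1 hdvd with h | h
  · have h1 : D = ⊥ := Subalgebra.eq_bot_of_finrank_one h
    have h2 : φ ∈ D := (hD φ).2 fun k hk v => LinearMap.congr_fun (hφ k hk) v
    rw [h1, Algebra.mem_bot] at h2
    obtain ⟨c, hc⟩ := h2
    exact ⟨c, by rw [← hc, Algebra.algebraMap_eq_smul_one]⟩
  · exfalso
    have h1 : finrank D V = 1 := by
      rw [h] at hmul
      exact Nat.eq_of_mul_eq_mul_left hV.pos (by rw [hmul, mul_one])
    have hsc : ∀ k ∈ K, σ k = 1 ∨ σ k = -1 := by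
      intro k hk
      have hfin : σ k ^ Nat.card G = 1 := by
        rw [← map_pow, pow_card_eq_one', map_one]
      rcases exists_fixed_or_neg hodd (σ k) Nat.card_pos hfin with ⟨v, hv, hv'⟩ | ⟨v, hv, hv'⟩
      · left
        ext w
        obtain ⟨c, hc⟩ := (finrank_eq_one_iff_of_nonzero' v hv).1 h1 w
        rw [← hc]
        change σ k ((c : Module.End ℚ V) v) = (c : Module.End ℚ V) v
        rw [← (hD c).1 c.2 k hk, hv']
      · right
        ext w
        obtain ⟨c, hc⟩ := (finrank_eq_one_iff_of_nonzero' v hv).1 h1 w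
        rw [← hc]
        change σ k ((c : Module.End ℚ V) v) = -((c : Module.End ℚ V) v)
        rw [← (hD c).1 c.2 k hk, hv', map_neg]
    have := finrank_le_one_of_scalar hK hsc
    exact absurd hV.one_lt (by omega)

end Cfsg.Agent.H347.Rat
end

-- part: H347/Rat/Char
section
/-!
The complex character of a rational representation that is irreducible on a subgroup.
-/

set_option autoImplicit false

namespace Cfsg.Agent.H347.Rat

open Module Cfsg Cfsg.Agent.Characters
open scoped TensorProduct ComplexConjugate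

variable {V : Type*} [AddCommGroup V] [Module ℚ V] [FiniteDimensional ℚ V]
variable {T : Type*} [Group T]

/-- Base change of a representation. -/
noncomputable def bc (τ : Representation ℚ T V) : Representation ℂ T (ℂ ⊗[ℚ] V) where
  toFun t := (τ t).baseChange ℂ
  map_one' := by
    rw [map_one]
    exact LinearMap.baseChange_id
  map_mul' a b := by
    rw [map_mul]
    exact LinearMap.baseChange_comp (A := ℂ) (τ b) (τ a)

/-- The complex character of a rational representation. -/
noncomputable def chi (τ : Representation ℚ T V) (t : T) : ℂ := ((τ.character t : ℚ) : ℂ)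

theorem character_bc (τ : Representation ℚ T V) : (bc τ).character = chi τ := by
  funext t
  change LinearMap.trace ℂ _ ((τ t).baseChange ℂ) = _
  rw [LinearMap.trace_baseChange]
  rfl

theorem isCharacter_chi (τ : Representation ℚ T V) : IsCharacter T (chi τ) := by
  rw [← character_bc]
  exact Core.isCharacter_of_rep _

theorem chi_one (τ : Representation ℚ T V) : chi τ 1 = (finrank ℚ V : ℂ) := by
  rw [chi, Representation.char_one]
  simp

theorem classInner_chi [Fintype T] (τ : Representation ℚ T V) (h1 : 0 < finrank ℚ V)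
    (h : ∀ φ : Module.End ℚ V, (∀ t, φ * τ t = τ t * φ) → ∃ c : ℚ, φ = c • (1 : Module.End ℚ V)) :
    classInner (chi τ) (chi τ) = 1 := by
  have hV : Nontrivial V := Module.nontrivial_of_finrank_pos (R := ℚ) h1
  have hcard : (Nat.card T : ℚ) ≠ 0 := Nat.cast_ne_zero.2 Nat.card_pos.ne'
  have : Invertible (Nat.card T : ℚ) := invertibleOfNonzero hcard
  have h2 := Representation.card_inv_mul_sum_char_mul_char_eq_finrank τ τ
  have h3 : finrank ℚ (Representation.IntertwiningMap τ τ) = 1 := by
    refine finrank_eq_one (Representation.IntertwiningMap.id τ) ?_ ?_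
    · intro h
      obtain ⟨v, hv⟩ := exists_ne (0 : V)
      exact hv (congrArg (fun f : Representation.IntertwiningMap τ τ => f v) h)
    · intro f
      obtain ⟨c, hc⟩ := h f.toLinearMap fun t => LinearMap.ext fun v => by
        exact Representation.IntertwiningMap.isIntertwining _ _ f t v
      refine ⟨c, ?_⟩
      ext v
      have := LinearMap.congr_fun hc v
      exact this.symm
  rw [h3] at h2
  rw [Core.classInner_def]
  have h4 : ∀ g : T, chi τ g * conj (chi τ g) = (((τ.character g * τ.character g⁻¹ : ℚ)) : ℂ) := by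
    intro g
    rw [← Core.isCharacter_apply_inv (isCharacter_chi τ) g]
    simp [chi]
  rw [Finset.sum_congr rfl fun g _ => h4 g]
  rw [← Rat.cast_sum, ← Rat.cast_natCast, ← Rat.cast_inv, ← Rat.cast_mul, h2]
  simp

/-- The kernel. -/
theorem eq_one_of_chi [Finite T] (τ : Representation ℚ T V) (t : T) (h : chi τ t = chi τ 1) : τ t = 1 := by
  rw [chi_one, ← character_bc, ← Module.finrank_baseChange (R := ℂ)] at h
  have h1 : bc τ t = LinearMap.id := (Values.character_eq_finrank_iff (bc τ) t).1 h
  ext v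
  have h2 : (1 : ℂ) ⊗ₜ[ℚ] (τ t v) = (1 : ℂ) ⊗ₜ[ℚ] v := LinearMap.congr_fun h1 ((1 : ℂ) ⊗ₜ[ℚ] v)
  exact Module.FaithfullyFlat.tensorProduct_mk_injective (A := ℚ) (B := ℂ) V h2

end Cfsg.Agent.H347.Rat
end

-- part: H347/Rat/Good
section
/-!
Faithful irreducible rational-valued characters of degree 23: degree and order.
-/

set_option autoImplicit false

namespace Cfsg.Agent.H347.Rat

open Module Cfsg Cfsg.Agent.Characters Cfsg.Agent.Lib
open scoped ComplexConjugate

/-- A faithful irreducible rational-valued character of degree `23`. -/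
structure Good (T : Type*) [Group T] (χ : T → ℂ) : Prop where
  irr : IsIrrCharacter T χ
  faithful : ∀ g, χ g = χ 1 → g = 1
  rat : ∀ g, ∃ q : ℚ, χ g = q
  deg : χ 1 = (23 : ℕ)

theorem Good.char {T : Type*} [Group T] {χ : T → ℂ} (h : Good T χ) : IsCharacter T χ :=
  Core.isIrr_isCharacter h.irr

theorem Good.comp {S T : Type*} [Group S] [Group T] {χ : T → ℂ} (h : Good T χ) (e : S ≃* T) :
    Good S (fun s => χ (e s)) where
  irr := Core.isIrr_comp e.toMonoidHom e.surjective h.irr
  faithful g hg := by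
    have h1 : χ (e g) = χ (e 1) := hg
    rw [map_one] at h1
    have := h.faithful _ h1
    exact e.injective (this.trans (map_one e).symm)
  rat g := h.rat _
  deg := by rw [map_one, h.deg]

theorem Good.dvd_card {T : Type*} [Group T] [Finite T] {χ : T → ℂ} (h : Good T χ) : 23 ∣ Nat.card T := by
  have hd := h.deg
  obtain ⟨n, ρ, hρ, rfl⟩ := h.irr
  have h1 := Cfsg.Agent.S0135.result ρ
  rw [Representation.char_one] at hd
  have h2 : finrank ℂ (Fin n → ℂ) = 23 := by exact_mod_cast hd
  rwa [h2] at h1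

/-- The bound for the order. -/
def N0 : ℕ := 2 ^ 42 * 3 ^ 15 * 5 ^ 6 * 7 ^ 3 * 11 ^ 2 * 13 * 17 * 19 * 23

theorem Good.card_dvd {T : Type*} [Group T] [Finite T] {χ : T → ℂ} (h : Good T χ) : Nat.card T ∣ N0 := by
  rw [Nat.dvd_iff_prime_pow_dvd_dvd]
  intro p k hp hk
  obtain ⟨P, hP⟩ := @Sylow.exists_subgroup_card_pow_prime T _ _ p k ⟨hp⟩ hk
  have h1 := SchurRational.schur_rational hp h.char h.faithful h.rat h.deg P (IsPGroup.of_card hP)
  rw [hP] at h1
  have key : ∀ e m : ℕ, p ^ (23 / (p - 1)) * (23 / (p - 1)).factorial = p ^ e * m → p.Coprime m →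
      p ^ e ∣ N0 → p ^ k ∣ N0 := by
    intro e m he hm hN
    rw [he] at h1
    exact (Nat.Coprime.dvd_of_dvd_mul_right (Nat.Coprime.pow_left k hm) h1).trans hN
  rcases Nat.lt_or_ge 24 p with h2 | h2
  · have h3 : 23 / (p - 1) = 0 := Nat.div_eq_of_lt (by omega)
    rw [h3, pow_zero, Nat.factorial_zero, mul_one] at h1
    exact h1.trans (one_dvd _)
  · interval_cases p
    · exact absurd hp (by norm_num)
    · exact absurd hp (by norm_num)
    · exact key 42 49308808782358125 (by norm_num [Nat.factorial]) (by norm_num) (by norm_num [N0])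
    · exact key 15 492800 (by norm_num [Nat.factorial]) (by norm_num) (by norm_num [N0])
    · exact absurd hp (by norm_num)
    · exact key 6 24 (by norm_num [Nat.factorial]) (by norm_num) (by norm_num [N0])
    · exact absurd hp (by norm_num)
    · exact key 3 6 (by norm_num [Nat.factorial]) (by norm_num) (by norm_num [N0])
    · exact absurd hp (by norm_num)
    · exact absurd hp (by norm_num)
    · exact absurd hp (by norm_num)
    · exact key 2 2 (by norm_num [Nat.factorial]) (by norm_num) (by norm_num [N0])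
    · exact absurd hp (by norm_num)
    · exact key 1 1 (by norm_num [Nat.factorial]) (by norm_num) (by norm_num [N0])
    · exact absurd hp (by norm_num)
    · exact absurd hp (by norm_num)
    · exact absurd hp (by norm_num)
    · exact key 1 1 (by norm_num [Nat.factorial]) (by norm_num) (by norm_num [N0])
    · exact absurd hp (by norm_num)
    · exact key 1 1 (by norm_num [Nat.factorial]) (by norm_num) (by norm_num [N0])
    · exact absurd hp (by norm_num)
    · exact absurd hp (by norm_num)
    · exact absurd hp (by norm_num)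
    · exact key 1 1 (by norm_num [Nat.factorial]) (by norm_num) (by norm_num [N0])
    · exact absurd hp (by norm_num)

/-- The elementary properties of an integer-valued faithful character of degree `23`. -/
structure IGood (T : Type*) [Group T] (f : T → ℤ) : Prop where
  dvd : 23 ∣ Nat.card T
  card : Nat.card T ∣ N0
  one : f 1 = 23
  faithful : ∀ g, f g = 23 → g = 1
  le : ∀ g, |f g| ≤ 23
  cnj : ∀ g x, f (g * x * g⁻¹) = f x
  sum : ∀ (E : Subgroup T) (S : Finset T), (∀ x, x ∈ S ↔ x ∈ E) → ∃ m : ℕ, ∑ x ∈ S, f x = S.card * m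
  sum_sq : ∀ (E : Subgroup T) (S : Finset T), (∀ x, x ∈ S ↔ x ∈ E) → ∃ m : ℕ, ∑ x ∈ S, f x ^ 2 = S.card * m
  prime_pow : ∀ (p k : ℕ) (x : T), p.Prime → x ^ p ^ k = 1 → ∃ e : ℕ, f x = 23 - p * e ∧ (p - 1) * e ≤ 23

theorem IGood.comp {S T : Type*} [Group S] [Group T] {f : T → ℤ} (h : IGood T f) (e : S ≃* T) :
    IGood S (fun s => f (e s)) where
  dvd := by rw [Nat.card_congr e.toEquiv]; exact h.dvd
  card := by rw [Nat.card_congr e.toEquiv]; exact h.card
  one := by rw [map_one, h.one]
  faithful g hg := e.injective ((h.faithful _ hg).trans (map_one e).symm)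
  le g := h.le _
  cnj g x := by simp only [map_mul, map_inv]; exact h.cnj _ _
  sum E S hS := by
    obtain ⟨m, hm⟩ := h.sum (E.map e.toMonoidHom) (S.map e.toEquiv.toEmbedding) fun x => by
      simp only [Finset.mem_map, Subgroup.mem_map, hS]
      rfl
    refine ⟨m, ?_⟩
    rw [Finset.sum_map, Finset.card_map] at hm
    exact hm
  sum_sq E S hS := by
    obtain ⟨m, hm⟩ := h.sum_sq (E.map e.toMonoidHom) (S.map e.toEquiv.toEmbedding) fun x => by
      simp only [Finset.mem_map, Subgroup.mem_map, hS]
      rfl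
    refine ⟨m, ?_⟩
    rw [Finset.sum_map, Finset.card_map] at hm
    exact hm
  prime_pow p k x hp hx := h.prime_pow p k _ hp (by rw [← map_pow, hx, map_one])

theorem Good.exists_int {T : Type*} [Group T] [Finite T] {χ : T → ℂ} (h : Good T χ) :
    ∃ f : T → ℤ, IGood T f := by
  classical
  have : Fintype T := Fintype.ofFinite T
  choose f hf using fun g => GaloisBasic.exists_int_of_rat h.char g (h.rat g)
  have h1 : f 1 = 23 := by
    have := hf 1
    rw [h.deg] at this
    exact_mod_cast this.symm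
  have hsum : ∀ (E : Subgroup T) (S : Finset T), (∀ x, x ∈ S ↔ x ∈ E) →
      ∀ u : T → ℤ, IsCharacter E (fun x : E => (u x : ℂ)) → ∃ m : ℕ, ∑ x ∈ S, u x = S.card * m := by
    intro E S hS u hu
    obtain ⟨m, hm⟩ := Core.classInner_isNat hu Core.isCharacter_one
    rw [Core.classInner_def] at hm
    refine ⟨m, ?_⟩
    have hc : S.card = Nat.card E := by
      rw [← Fintype.card_coe, ← Nat.card_eq_fintype_card]
      exact Nat.card_congr (Equiv.subtypeEquivRight hS)
    have hs : ∑ x ∈ S, u x = ∑ x : E, u x := by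
      refine Finset.sum_bij' (fun x hx => (⟨x, (hS x).1 hx⟩ : E)) (fun x _ => (x : T)) ?_ ?_ ?_ ?_ ?_
      · intro a _; exact Finset.mem_univ _
      · intro a _; exact (hS _).2 a.2
      · intro a _; rfl
      · intro a _; rfl
      · intro a _; rfl
    have h0 : (Nat.card E : ℂ) ≠ 0 := Nat.cast_ne_zero.2 Nat.card_pos.ne'
    rw [inv_mul_eq_iff_eq_mul₀ h0] at hm
    rw [hc, hs]
    have h2 : ((∑ x : E, u x : ℤ) : ℂ) = ((Nat.card E : ℤ) * m : ℤ) := by
      push_cast
      rw [← hm]
      refine Finset.sum_congr rfl fun x _ => ?_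
      simp
    exact_mod_cast h2
  have hres : ∀ E : Subgroup T, IsCharacter E (fun x : E => (f x : ℂ)) := by
    intro E
    have := Brauer.isCharacter_restrict h.char E
    convert this using 2
    exact (hf _).symm
  refine ⟨f, h.dvd_card, h.card_dvd, h1, ?_, ?_, ?_, ?_, ?_, ?_⟩
  · intro g hg
    apply h.faithful
    rw [hf, hf, hg, h1]
  · intro g
    obtain ⟨n, ρ, hρ⟩ := h.char
    have h2 := Values.norm_character_le ρ g
    have h3 := Representation.char_one ρ
    rw [hρ] at h2 h3
    rw [h.deg] at h3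
    have h4 : finrank ℂ (Fin n → ℂ) = 23 := by exact_mod_cast h3.symm
    rw [h4, hf, Complex.norm_intCast] at h2
    exact_mod_cast h2
  · intro g x
    have h2 := Core.isCharacter_isClassFunction h.char x g
    rw [hf, hf] at h2
    exact_mod_cast h2
  · intro E S hS
    exact hsum E S hS f (hres E)
  · intro E S hS
    refine hsum E S hS (fun x => f x ^ 2) ?_
    have := Core.isCharacter_mul (hres E) (hres E)
    convert this using 2
    simp [pow_two]
  · intro p k x hp hx
    by_cases hx1 : x = 1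
    · exact ⟨0, by rw [hx1, h1]; simp, by simp⟩
    have : Fact p.Prime := ⟨hp⟩
    have hP : IsPGroup p (Subgroup.zpowers x) := by
      rw [IsPGroup.iff_card]
      rw [Nat.card_zpowers]
      obtain ⟨j, -, hj⟩ := (Nat.dvd_prime_pow hp).1 (orderOf_dvd_of_pow_eq_one hx)
      exact ⟨j, hj⟩
    obtain ⟨e, he1, he2⟩ := SchurRational.value_of_pGroup hp hP (Brauer.isCharacter_restrict h.char _)
      (x := ⟨x, Subgroup.mem_zpowers x⟩) (fun h => hx1 (congrArg Subtype.val h)) (h.rat x) (n := 23) h.deg
    refine ⟨e, ?_, he2⟩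
    have he3 : χ x = (23 : ℕ) - (p : ℂ) * e := he1
    rw [hf] at he3
    exact_mod_cast he3

/-- A subgroup of order at least `25` has two non-identity elements with different values. -/
theorem IGood.pure {T : Type*} [Group T] {f : T → ℤ} (h : IGood T f) (E : Subgroup T) (S : Finset T)
    (hS : ∀ x, x ∈ S ↔ x ∈ E) (hE : 25 ≤ S.card) (hE' : ∃ v, ∀ x ∈ E, x ≠ 1 → f x = v) : False := by
  classical
  obtain ⟨v, hv⟩ := hE'
  obtain ⟨m, hm⟩ := h.sum E S hS
  have h1 : (1 : T) ∈ S := (hS 1).2 E.one_mem
  rw [← Finset.add_sum_erase S f h1, h.one, Finset.sum_congr rfl (g := fun _ => v) fun x hx => ?_,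
    Finset.sum_const, Finset.card_erase_of_mem h1] at hm
  · obtain ⟨y, hy, hy1⟩ : ∃ y ∈ S, y ≠ 1 := by
      by_contra hno
      push Not at hno
      have : S.card ≤ 1 := Finset.card_le_one.2 fun a ha b hb => (hno a ha).trans (hno b hb).symm
      omega
    have hvy := hv y ((hS y).1 hy) hy1
    have h2 : v ≠ 23 := fun h3 => hy1 (h.faithful y (hvy.trans h3))
    have h3 : |v| ≤ 23 := hvy ▸ h.le y
    rw [abs_le] at h3
    rw [nsmul_eq_mul, Nat.cast_sub (by omega)] at hm
    push_cast at hm
    have hn : (25 : ℤ) ≤ S.card := by exact_mod_cast hE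
    have hm0 : (0 : ℤ) ≤ m := Int.natCast_nonneg m
    generalize (S.card : ℤ) = n at hm hn
    generalize (m : ℤ) = c at hm hm0
    -- `(n - 1) (v - c) = c - 23`
    have h4 : (n - 1) * (v - c) = c - 23 := by linarith
    rcases lt_trichotomy (v - c) 0 with h5 | h5 | h5
    · nlinarith
    · rw [h5] at h4; omega
    · nlinarith
  · obtain ⟨hx1, hx⟩ := Finset.mem_erase.1 hx
    exact hv x ((hS x).1 hx) hx1

end Cfsg.Agent.H347.Rat
end

-- part: H347/Rat/Co1
section
/-!
`Co₁` has no faithful rational character of degree `23`: the code words vanishing on an octad give an elementary abelian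
group of order `32` with all involutions conjugate.
-/

set_option autoImplicit false

namespace Cfsg.Agent.H347.Rat

open Cfsg Cfsg.Agent.SporadicA.GolayBase Cfsg.Agent.SporadicA.Co0Mono Cfsg.Agent.SporadicA.Co1Simple
open Cfsg.Agent.CoOneType.SignFacts (sup mem_sup notMem_sup wt sup_mem wt_cases wt_add_allOne)
open Cfsg.Agent.CoOneType.ClosingFacts (mk mk_mul mk_inv mk_eq_one mk_eq mk_add_allOne isConj_octad)

/-- The indices of the code words vanishing on the octad with mask `13062145`. -/
def L32 : List ℕ := [0, 150, 372, 482, 568, 686, 844, 986, 1134, 1272, 1306, 1420, 1622, 1728, 1826, 1972, 2122, 2268,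
  2366, 2472, 2674, 2788, 2822, 2960, 3108, 3250, 3408, 3526, 3612, 3722, 3944, 4094]

theorem L32_xor : ∀ i ∈ L32, ∀ j ∈ L32, i ^^^ j ∈ L32 := by decide +kernel

theorem L32_lt : ∀ i ∈ L32, i < 4096 := by decide +kernel

theorem L32_nodup : L32.Nodup := by decide +kernel

theorem L32_even : ∀ i ∈ L32, (enc i).testBit 0 = false := by (rewrite [Cfsg.Agent.GolayF.enc_eq]; decide +kernel)

theorem L32_pop : ∀ i ∈ L32, i = 0 ∨ popcount (enc i) = 8 ∨ popcount (enc i) = 16 := by (rewrite [Cfsg.Agent.GolayF.enc_eq, Cfsg.Agent.GolayF.popcount_eq]; decide +kernel)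

/-- The code word with index `i`. -/
def cw (i : ℕ) : golayCode := ⟨word (enc i), enc_mem i⟩

theorem cw_add (i j : ℕ) : cw i + cw j = cw (i ^^^ j) := by
  apply Subtype.ext
  change word (enc i) + word (enc j) = word (enc (i ^^^ j))
  rw [enc_xor, word_xor]

theorem cw_zero : cw 0 = 0 := by
  apply Subtype.ext
  change word (enc 0) = 0
  rw [show enc 0 = 0 by decide, word_zero]

theorem wt_cw (i : ℕ) : wt (cw i) = popcount (enc i) := by
  unfold wt sup
  change (support₂ (word (enc i))).card = _
  rw [support₂_word, card_fin]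

theorem cw_some_zero {i : ℕ} (hi : i ∈ L32) : (cw i : GolayPt → ZMod 2) (some 0) = 0 := by
  change word (enc i) (some 0) = 0
  rw [word_apply]
  have : idx (some 0) = 0 := by decide
  rw [this, L32_even i hi]
  simp

theorem sgn_inj : ∀ a b : ZMod 2, sgn a = sgn b → a = b := by decide

theorem signCo0_inj {c d : golayCode} (h : signCo0 c = signCo0 d) : c = d := by
  apply Subtype.ext
  funext i
  have h1 : signCo0 c • Cfsg.Agent.SporadicStructure.Co0Base.e8 i = signCo0 d • Cfsg.Agent.SporadicStructure.Co0Base.e8 i := by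
    rw [h]
  have h2 := congrArg (fun v : leechLattice => (v : GolayPt → ℤ) i) h1
  simp only [signCo0_smul, signMap_apply, Cfsg.Agent.SporadicStructure.Co0Base.e8_coe, Pi.single_eq_same] at h2
  apply sgn_inj
  omega

/-- The element of `Co₁`. -/
noncomputable def el (i : ℕ) : Spor.Co1 := mk (signCo0 (cw i))

theorem el_mul (i j : ℕ) : el i * el j = el (i ^^^ j) := by
  rw [el, el, el, ← mk_mul, ← signCo0_add, cw_add]

theorem el_zero : el 0 = 1 := by
  rw [el, cw_zero, signCo0_zero]; rfl

theorem el_inj {i j : ℕ} (hi : i ∈ L32) (hj : j ∈ L32) (h : el i = el j) : i = j := by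
  rw [el, el, mk_eq] at h
  have key : cw i = cw j := by
    rcases h with h | h
    · exact signCo0_inj h
    · exfalso
      rw [← signCo0_add] at h
      have h1 := congrArg (fun c : golayCode => (c : GolayPt → ZMod 2) (some 0)) (signCo0_inj h)
      change (cw i : GolayPt → ZMod 2) (some 0) = (cw j : GolayPt → ZMod 2) (some 0) + 1 at h1
      rw [cw_some_zero hi, cw_some_zero hj] at h1
      exact absurd h1 (by decide)
  have h1 : word (enc i) = word (enc j) := congrArg Subtype.val key
  have h2 := congrArg maskW h1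
  rw [maskW_word (enc_lt i), maskW_word (enc_lt j)] at h2
  exact enc_injOn (L32_lt i hi) (L32_lt j hj) h2

/-- The elementary abelian group of order `32`. -/
noncomputable def E32 : Subgroup Spor.Co1 where
  carrier := {x | ∃ i ∈ L32, el i = x}
  one_mem' := ⟨0, by decide, el_zero⟩
  mul_mem' := by
    rintro _ _ ⟨i, hi, rfl⟩ ⟨j, hj, rfl⟩
    exact ⟨i ^^^ j, L32_xor i hi j hj, (el_mul i j).symm⟩
  inv_mem' := by
    rintro _ ⟨i, hi, rfl⟩
    refine ⟨i, hi, ?_⟩
    rw [eq_inv_iff_mul_eq_one, el_mul, Nat.xor_self, el_zero]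

theorem not_co1 {f : Spor.Co1 → ℤ} (hf : IGood Spor.Co1 f) : False := by
  classical
  have hconj : ∀ a b : Spor.Co1, IsConj a b → f a = f b := by
    intro a b h
    obtain ⟨g, rfl⟩ := isConj_iff.1 h
    exact (hf.cnj g a).symm
  refine hf.pure E32 (L32.toFinset.image el) (fun x => ?_) ?_ ⟨f (el 150), ?_⟩
  · rw [Finset.mem_image]
    simp only [List.mem_toFinset]
    rfl
  · rw [Finset.card_image_of_injOn, List.toFinset_card_of_nodup L32_nodup]
    · decide
    · intro i hi j hj h
      exact el_inj (by simpa using hi) (by simpa using hj) h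
  · rintro _ ⟨i, hi, rfl⟩ hne
    have h8 : wt (cw 150) = 8 := by rw [wt_cw]; (rewrite [Cfsg.Agent.GolayF.enc_eq, Cfsg.Agent.GolayF.popcount_eq]; decide +kernel)
    apply hconj
    rcases L32_pop i hi with h | h | h
    · exact absurd (by rw [h, el_zero]) hne
    · exact isConj_octad (by rw [wt_cw, h]) h8
    · have h1 := wt_add_allOne (cw i)
      rw [wt_cw, h] at h1
      have h2 := isConj_octad (c := cw i + allOne) (d := cw 150) (by omega) h8
      rwa [mk_add_allOne] at h2

end Cfsg.Agent.H347.Rat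
end

private theorem dce_a1b51242ba3e : _root_.True := by
  try have : _root_.True := by simp only [_root_.Cfsg.Agent.H347.Rat.wsp.eq_1]
  try have : _root_.True := by simp only [_root_.Cfsg.Agent.H347.Rat.chi.eq_1]
  try have : _root_.True := by simp only [_root_.Cfsg.Agent.H347.Rat.N0.eq_1]
  try have : _root_.True := by simp only [_root_.Cfsg.Agent.H347.Rat.el.eq_1]
  exact _root_.True.intro
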